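import Cfsg.Agent.Lib.OrthCrit.Basic

/-!
The standard forms as quadratic forms whose coercion is definitionally the given function, and
orthogonal direct sums.
-/

set_option autoImplicit false

namespace CfsgLib.OrthCrit

open QuadraticMap Module
open CfsgLib.Classical.Quad (NDPolar Orth refl)

variable {F : Type*} [Field F]

/-- `Cfsg.quadFormPlus` as a quadratic form. -/
noncomputable def plusForm (m : ℕ) (F : Type*) [Field F] : QuadraticForm F (Fin m ⊕ Fin m → F) :=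
  QuadraticMap.copy (∑ i : Fin m, QuadraticMap.proj (Sum.inl i) (Sum.inr i)) (Cfsg.quadFormPlus m F)
    (funext fun v => by simp [Cfsg.quadFormPlus])

/-- `Cfsg.quadFormOdd` as a quadratic form. -/
noncomputable def oddForm (m : ℕ) (F : Type*) [Field F] :
    QuadraticForm F (Unit ⊕ (Fin m ⊕ Fin m) → F) :=
  QuadraticMap.copy (QuadraticMap.proj (Sum.inl ()) (Sum.inl ()) +
      ∑ i : Fin m, QuadraticMap.proj (Sum.inr (Sum.inl i)) (Sum.inr (Sum.inr i)))
    (Cfsg.quadFormOdd m F) (funext fun v => by simp [Cfsg.quadFormOdd, _root_.sq])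

/-- `Cfsg.quadFormMinus` as a quadratic form. -/
noncomputable def minusForm (m : ℕ) (F : Type*) [Field F] (a b : F) :
    QuadraticForm F ((Fin m ⊕ Fin m) ⊕ Fin 2 → F) :=
  QuadraticMap.copy ((∑ i : Fin m, QuadraticMap.proj (Sum.inl (Sum.inl i)) (Sum.inl (Sum.inr i))) +
      (QuadraticMap.proj (Sum.inr 0) (Sum.inr 0) + a • QuadraticMap.proj (Sum.inr 0) (Sum.inr 1)
        + b • QuadraticMap.proj (Sum.inr 1) (Sum.inr 1)))
    (Cfsg.quadFormMinus m F a b) (funext fun v => by simp [Cfsg.quadFormMinus, _root_.sq, mul_assoc])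

@[simp] theorem plusForm_apply (m : ℕ) (v : Fin m ⊕ Fin m → F) :
    plusForm m F v = Cfsg.quadFormPlus m F v := rfl

@[simp] theorem oddForm_apply (m : ℕ) (v : Unit ⊕ (Fin m ⊕ Fin m) → F) :
    oddForm m F v = Cfsg.quadFormOdd m F v := rfl

@[simp] theorem minusForm_apply (m : ℕ) (a b : F) (v : (Fin m ⊕ Fin m) ⊕ Fin 2 → F) :
    minusForm m F a b v = Cfsg.quadFormMinus m F a b v := rfl

theorem polar_plusForm (m : ℕ) (u v : Fin m ⊕ Fin m → F) :
    polar (⇑(plusForm m F)) u v = ∑ i, (u (.inl i) * v (.inr i) + u (.inr i) * v (.inl i)) := by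
  simp only [polar, plusForm_apply, Cfsg.quadFormPlus, Pi.add_apply, ← Finset.sum_sub_distrib]
  exact Finset.sum_congr rfl fun i _ => by ring

theorem polar_oddForm (m : ℕ) (u v : Unit ⊕ (Fin m ⊕ Fin m) → F) :
    polar (⇑(oddForm m F)) u v = 2 * (u (.inl ()) * v (.inl ())) +
      polar (⇑(plusForm m F)) (u ∘ Sum.inr) (v ∘ Sum.inr) := by
  simp only [polar, oddForm_apply, plusForm_apply, Cfsg.quadFormOdd, Cfsg.quadFormPlus,
    Pi.add_apply, Function.comp_apply]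
  ring

theorem polar_minusForm (m : ℕ) (a b : F) (u v : (Fin m ⊕ Fin m) ⊕ Fin 2 → F) :
    polar (⇑(minusForm m F a b)) u v = polar (⇑(plusForm m F)) (u ∘ Sum.inl) (v ∘ Sum.inl) +
      (2 * (u (.inr 0) * v (.inr 0)) + a * (u (.inr 0) * v (.inr 1) + u (.inr 1) * v (.inr 0)) +
        2 * b * (u (.inr 1) * v (.inr 1))) := by
  simp only [polar, minusForm_apply, plusForm_apply, Cfsg.quadFormMinus, Cfsg.quadFormPlus,
    Pi.add_apply, Function.comp_apply]
  ring

theorem ndPolar_plusForm (m : ℕ) : NDPolar (plusForm m F) := by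
  intro x hx
  funext k
  rcases k with i | i
  · have := hx (Pi.single (Sum.inr i) 1)
    simpa [polar_plusForm, Pi.single_apply] using this
  · have := hx (Pi.single (Sum.inl i) 1)
    simpa [polar_plusForm, Pi.single_apply] using this

theorem ndPolar_oddForm (h2 : (2 : F) ≠ 0) (m : ℕ) : NDPolar (oddForm m F) := by
  intro x hx
  funext k
  rcases k with i | i
  · have h := hx (Pi.single (Sum.inl ()) 1)
    simp [polar_oddForm, polar_plusForm, Pi.single_apply, h2] at h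
    cases i
    exact h
  · refine congrFun (ndPolar_plusForm m (x ∘ Sum.inr) fun y => ?_) i
    have h := hx (Sum.elim 0 y)
    simpa [polar_oddForm] using h

theorem ndPolar_minusForm (m : ℕ) (a b : F)
    (hab : ∀ z₁ z₂ : F, z₁ ^ 2 + a * z₁ * z₂ + b * z₂ ^ 2 = 0 → z₁ = 0 ∧ z₂ = 0)
    (ha : (2 : F) = 0 → a ≠ 0) : NDPolar (minusForm m F a b) := by
  intro x hx
  have hl : x ∘ Sum.inl = 0 := ndPolar_plusForm m _ fun y => by
    have h := hx (Sum.elim y 0)
    simpa [polar_minusForm] using h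
  have h0 := hx (Pi.single (Sum.inr 0) 1)
  have h1 := hx (Pi.single (Sum.inr 1) 1)
  simp [polar_minusForm, polar_plusForm, Pi.single_apply] at h0 h1
  have hz : x (Sum.inr 0) = 0 ∧ x (Sum.inr 1) = 0 := by
    by_cases h2 : (2 : F) = 0
    · simp [h2, ha h2] at h0 h1
      exact ⟨h1, h0⟩
    · refine hab _ _ (mul_left_cancel₀ h2 ?_)
      linear_combination x (Sum.inr 0) * h0 + x (Sum.inr 1) * h1
  funext k
  rcases k with i | i
  · exact congrFun hl i
  · fin_cases i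
    · exact hz.1
    · exact hz.2

theorem a_ne_zero_of_anisotropic [Finite F] {a b : F}
    (hab : ∀ z₁ z₂ : F, z₁ ^ 2 + a * z₁ * z₂ + b * z₂ ^ 2 = 0 → z₁ = 0 ∧ z₂ = 0)
    (h2 : (2 : F) = 0) : a ≠ 0 := by
  rintro rfl
  have := Fintype.ofFinite F
  have := CharTwo.of_one_ne_zero_of_two_eq_zero (R := F) one_ne_zero h2
  obtain ⟨s, hs⟩ := FiniteField.isSquare_of_char_two (ringChar.eq F 2) b
  exact one_ne_zero (hab s 1 (by rw [hs]; linear_combination (s * s) * h2)).2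

section Sum

variable {ι κ : Type} [Fintype ι] [DecidableEq ι] [Fintype κ] [DecidableEq κ]
variable (Q₁ : QuadraticForm F (ι → F)) (Q₂ : QuadraticForm F (κ → F))

/-- The orthogonal sum on `F ^ (ι ⊕ κ)`. -/
noncomputable def sumForm : QuadraticForm F (ι ⊕ κ → F) :=
  QuadraticMap.copy (Q₁.comp (LinearMap.funLeft F F Sum.inl) + Q₂.comp (LinearMap.funLeft F F Sum.inr))
    (fun v => Q₁ (v ∘ Sum.inl) + Q₂ (v ∘ Sum.inr)) (funext fun _ => rfl)

theorem sumForm_apply (v : ι ⊕ κ → F) :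
    sumForm Q₁ Q₂ v = Q₁ (v ∘ Sum.inl) + Q₂ (v ∘ Sum.inr) := rfl

theorem polar_sumForm (u v : ι ⊕ κ → F) :
    polar (⇑(sumForm Q₁ Q₂)) u v =
      polar (⇑Q₁) (u ∘ Sum.inl) (v ∘ Sum.inl) + polar (⇑Q₂) (u ∘ Sum.inr) (v ∘ Sum.inr) := by
  simp only [polar, sumForm_apply]
  show Q₁ (u ∘ Sum.inl + v ∘ Sum.inl) + Q₂ (u ∘ Sum.inr + v ∘ Sum.inr) - _ - _ = _
  ring

variable {Q₁ Q₂}

theorem ndPolar_sumForm (h₁ : NDPolar Q₁) (h₂ : NDPolar Q₂) : NDPolar (sumForm Q₁ Q₂) := by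
  intro x hx
  have e1 : x ∘ Sum.inl = 0 := h₁ _ fun y => by
    have h := hx (Sum.elim y 0)
    simpa [polar_sumForm] using h
  have e2 : x ∘ Sum.inr = 0 := h₂ _ fun y => by
    have h := hx (Sum.elim 0 y)
    simpa [polar_sumForm] using h
  funext k
  rcases k with i | i
  · exact congrFun e1 i
  · exact congrFun e2 i

/-- The block-diagonal matrix of a pair of isometries. -/
def diagMat (Q₁ : QuadraticForm F (ι → F)) (Q₂ : QuadraticForm F (κ → F)) :
    ↥(Cfsg.isometryGroup F ⇑Q₁) × ↥(Cfsg.isometryGroup F ⇑Q₂) →* Matrix (ι ⊕ κ) (ι ⊕ κ) F where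
  toFun p := Matrix.fromBlocks ((p.1 : GL ι F) : Matrix ι ι F) 0 0 ((p.2 : GL κ F) : Matrix κ κ F)
  map_one' := by simp
  map_mul' p q := by simp [Matrix.fromBlocks_multiply]

/-- The block-diagonal homomorphism into the isometries of the orthogonal sum. -/
noncomputable def diagHom :
    ↥(Cfsg.isometryGroup F ⇑Q₁) × ↥(Cfsg.isometryGroup F ⇑Q₂) →*
      ↥(Cfsg.isometryGroup F ⇑(sumForm Q₁ Q₂)) :=
  ((diagMat Q₁ Q₂).toHomUnits).codRestrict _ fun p u v => by
    show sumForm Q₁ Q₂ ((diagMat Q₁ Q₂ p).mulVec u) = sumForm Q₁ Q₂ u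
    simp only [sumForm_apply, diagMat, MonoidHom.coe_mk, OneHom.coe_mk, Matrix.fromBlocks_mulVec,
      Matrix.zero_mulVec, add_zero, zero_add, Sum.elim_comp_inl, Sum.elim_comp_inr]
    exact congrArg₂ (· + ·) (p.1.2 (u ∘ Sum.inl) (u ∘ Sum.inl)) (p.2.2 (u ∘ Sum.inr) (u ∘ Sum.inr))

theorem diagHom_coe (p : ↥(Cfsg.isometryGroup F ⇑Q₁) × ↥(Cfsg.isometryGroup F ⇑Q₂)) :
    ((diagHom p : GL (ι ⊕ κ) F) : Matrix (ι ⊕ κ) (ι ⊕ κ) F) =
      Matrix.fromBlocks ((p.1 : GL ι F) : Matrix ι ι F) 0 0 ((p.2 : GL κ F) : Matrix κ κ F) := rfl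

theorem act_diagHom (p : ↥(Cfsg.isometryGroup F ⇑Q₁) × ↥(Cfsg.isometryGroup F ⇑Q₂))
    (x : ι ⊕ κ → F) : OrthSpinor.act (sumForm Q₁ Q₂) (diagHom p) x =
      Sum.elim (OrthSpinor.act Q₁ p.1 (x ∘ Sum.inl)) (OrthSpinor.act Q₂ p.2 (x ∘ Sum.inr)) := by
  show Matrix.mulVec _ x = _
  rw [diagHom_coe, Matrix.fromBlocks_mulVec]
  simp only [Matrix.zero_mulVec, add_zero, zero_add]
  rfl

/-- `rank (g - 1)` is additive on orthogonal sums. -/
theorem parity_diagHom (p : ↥(Cfsg.isometryGroup F ⇑Q₁) × ↥(Cfsg.isometryGroup F ⇑Q₂)) :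
    parity (diagHom p) = parity p.1 + parity p.2 := by
  simp only [parity, ← Nat.cast_add]
  congr 1
  let e := LinearEquiv.sumArrowLequivProdArrow ι κ F F
  have hcomp : ∀ x, e (CfsgLib.Orth.subOne (toOrth _ (diagHom p)) x) =
      ((CfsgLib.Orth.subOne (toOrth Q₁ p.1)) (e x).1, (CfsgLib.Orth.subOne (toOrth Q₂ p.2)) (e x).2) := by
    intro x
    simp only [CfsgLib.Orth.subOne_apply, toOrth_apply, act_diagHom]
    refine Prod.ext (funext fun i => ?_) (funext fun i => ?_) <;>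
      simp [e, LinearEquiv.sumArrowLequivProdArrow, Equiv.sumArrowEquivProdArrow, Function.comp_def]
  have hrange : (LinearMap.range (CfsgLib.Orth.subOne (toOrth _ (diagHom p)))).map
      (e : (ι ⊕ κ → F) →ₗ[F] (ι → F) × (κ → F)) =
      (LinearMap.range (CfsgLib.Orth.subOne (toOrth Q₁ p.1))).prod
        (LinearMap.range (CfsgLib.Orth.subOne (toOrth Q₂ p.2))) := by
    ext ⟨a, b⟩
    constructor
    · rintro ⟨_, ⟨x, rfl⟩, hx⟩
      change e _ = (a, b) at hx
      rw [hcomp] at hx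
      obtain ⟨rfl, rfl⟩ := Prod.ext_iff.mp hx
      exact ⟨LinearMap.mem_range_self _ _, LinearMap.mem_range_self _ _⟩
    · rintro ⟨⟨x, rfl⟩, ⟨y, rfl⟩⟩
      refine ⟨_, ⟨e.symm (x, y), rfl⟩, ?_⟩
      show e _ = _
      rw [hcomp, LinearEquiv.apply_symm_apply]
  have h1 := (Submodule.equivMapOfInjective (e : (ι ⊕ κ → F) →ₗ[F] (ι → F) × (κ → F)) e.injective
    (LinearMap.range (CfsgLib.Orth.subOne (toOrth _ (diagHom p))))).finrank_eq
  rw [hrange] at h1
  let S := LinearMap.range (CfsgLib.Orth.subOne (toOrth Q₁ p.1))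
  let T := LinearMap.range (CfsgLib.Orth.subOne (toOrth Q₂ p.2))
  let ep : ↥(S.prod T) ≃ₗ[F] S × T :=
    { toFun := fun x => (⟨x.1.1, x.2.1⟩, ⟨x.1.2, x.2.2⟩)
      invFun := fun x => ⟨(x.1.1, x.2.1), x.1.2, x.2.2⟩
      map_add' := fun _ _ => rfl
      map_smul' := fun _ _ => rfl
      left_inv := fun _ => rfl
      right_inv := fun _ => rfl }
  rw [ep.finrank_eq, Module.finrank_prod] at h1
  exact h1

/-- `θ` does not see a trivial summand. -/
theorem theta_diagHom_inl [Fintype F] (h₁ : NDPolar Q₁) (h2 : (2 : F) ≠ 0) (g : ↥(Cfsg.isometryGroup F ⇑Q₁)) :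
    OrthSpinor.theta (Q := sumForm Q₁ Q₂) 1 (diagHom (g, 1)) = OrthSpinor.theta (Q := Q₁) 1 g := by
  classical
  have key : ((OrthSpinor.theta (Q := sumForm Q₁ Q₂) 1).comp diagHom).comp (MonoidHom.inl _ _) =
      OrthSpinor.theta (Q := Q₁) 1 := by
    refine OrthSpinor.hom_ext h2 (CfsgLib.Orth.ndPolar_iff.mp h₁) fun v hv => ?_
    set w : ι ⊕ κ → F := Sum.elim v 0
    have hw : sumForm Q₁ Q₂ w = Q₁ v := by simp [w, sumForm_apply]
    have hw0 : sumForm Q₁ Q₂ w ≠ 0 := by rw [hw]; exact hv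
    have heq : diagHom ((OrthSpinor.reflection hv), (1 : ↥(Cfsg.isometryGroup F ⇑Q₂))) =
        OrthSpinor.reflection hw0 := by
      refine OrthSpinor.ext_act _ fun x => ?_
      rw [act_diagHom, ← toOrth_apply (Q := Q₁), ← toOrth_apply (Q := sumForm Q₁ Q₂), toOrth_reflection,
        toOrth_reflection,
        CfsgLib.Classical.Quad.refl_apply, CfsgLib.Classical.Quad.refl_apply, hw, polar_sumForm]
      funext k
      rcases k with i | i <;> simp [w, OrthSpinor.act_one]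
    rw [MonoidHom.comp_apply, MonoidHom.comp_apply, MonoidHom.inl_apply, heq,
      OrthSpinor.theta_reflection h2 one_ne_zero hw0, OrthSpinor.theta_reflection h2 one_ne_zero hv, hw]
  exact congrArg (fun f : _ →* ℤˣ => f g) key

end Sum

end CfsgLib.OrthCrit
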