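import Cfsg.Agent.Lib.OrthCrit.Basic

/-!
The two classes of maximal totally singular subspaces of a split space: `m - dim (U ∩ gU)` has the
parity of `rank (g - 1)`.
-/

set_option autoImplicit false

namespace CfsgLib.OrthCrit

open QuadraticMap Module
open CfsgLib.Classical.Quad (NDPolar Orth refl)

variable {F V : Type*} [Field F] [AddCommGroup V] [Module F V] [FiniteDimensional F V]
variable {Q : QuadraticForm F V}

/-- A maximal totally singular subspace of a split space. -/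
def IsMaxSing (Q : QuadraticForm F V) (U : Submodule F V) : Prop :=
  (∀ x ∈ U, Q x = 0) ∧ 2 * finrank F U = finrank F V

theorem IsMaxSing.polar_eq_zero {U : Submodule F V} (hU : IsMaxSing Q U) {x y : V} (hx : x ∈ U)
    (hy : y ∈ U) : polar Q x y = 0 := by
  simp [polar, hU.1 _ (add_mem hx hy), hU.1 x hx, hU.1 y hy]

theorem IsMaxSing.mem_of_orth (hnd : NDPolar Q) {U : Submodule F V} (hU : IsMaxSing Q U) {x : V}
    (hx : ∀ y ∈ U, polar Q y x = 0) : x ∈ U := by
  have hle : U ≤ LinearMap.BilinForm.orthogonal (polarBilin Q) U := fun a ha b hb =>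
    hU.polar_eq_zero hb ha
  have heq := Submodule.eq_of_le_of_finrank_le hle (by
    rw [CfsgLib.Orth.finrank_polar_orthogonal hnd]
    have := hU.2; omega)
  rw [heq]
  exact hx

theorem IsMaxSing.map {U : Submodule F V} (hU : IsMaxSing Q U) (g : Orth Q) :
    IsMaxSing Q (U.map (g.1 : V →ₗ[F] V)) := by
  refine ⟨?_, ?_⟩
  · rintro _ ⟨x, hx, rfl⟩
    exact (CfsgLib.Classical.Quad.orth_Q g x).trans (hU.1 x hx)
  · rw [← (Submodule.equivMapOfInjective _ g.1.injective U).finrank_eq]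
    exact hU.2

theorem finrank_le_inf_ker_add_one (S : Submodule F V) (φ : V →ₗ[F] F) :
    finrank F S ≤ finrank F ↥(S ⊓ LinearMap.ker φ) + 1 := by
  have h1 := Submodule.finrank_sup_add_finrank_inf_eq S (LinearMap.ker φ)
  have h2 := LinearMap.finrank_range_add_finrank_ker φ
  have h3 : finrank F (LinearMap.range φ) ≤ 1 := by
    simpa using Submodule.finrank_le (LinearMap.range φ)
  have h4 := Submodule.finrank_le (S ⊔ LinearMap.ker φ)
  omega

/-- A reflection changes `dim (U ∩ W)` by exactly one. -/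
theorem finrank_inf_map_refl (hnd : NDPolar Q) {U W : Submodule F V} (hU : IsMaxSing Q U)
    (hW : IsMaxSing Q W) {v : V} (hv : Q v ≠ 0) :
    finrank F ↥(U ⊓ W.map ((refl Q v).1 : V →ₗ[F] V)) + 1 = finrank F ↥(U ⊓ W) ∨
      finrank F ↥(U ⊓ W.map ((refl Q v).1 : V →ₗ[F] V)) = finrank F ↥(U ⊓ W) + 1 := by
  set W' := W.map ((refl Q v).1 : V →ₗ[F] V) with hW'def
  set φ : V →ₗ[F] F := polarBilin Q v
  have hφ : ∀ x, x ∈ LinearMap.ker φ ↔ polar Q x v = 0 := fun x => by
    rw [LinearMap.mem_ker, polar_comm Q x v]; rfl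
  have hW' : IsMaxSing Q W' := hW.map _
  have hvW : v ∉ W := fun h => hv (hW.1 v h)
  -- the common hyperplane
  have h2 : U ⊓ W' ⊓ LinearMap.ker φ = U ⊓ W ⊓ LinearMap.ker φ := by
    ext x
    simp only [Submodule.mem_inf, and_congr_left_iff, and_congr_right_iff]
    intro hx _
    rw [hφ] at hx
    constructor
    · rintro ⟨y, hy, rfl⟩
      have h1 : polar Q y v = 0 := by
        by_contra hne
        refine hne ?_
        have h3 : polar Q ((refl Q v).1 y) v = -polar Q y v := by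
          rw [CfsgLib.Classical.Quad.refl_apply, polar_add_left, polar_smul_left,
            CfsgLib.Classical.Quad.polar_self', smul_eq_mul]
          field_simp; ring
        rw [← neg_eq_zero, ← h3]
        exact hx
      show (refl Q v).1 y ∈ W
      rwa [CfsgLib.Classical.Quad.refl_fix h1]
    · intro hxW
      exact ⟨x, hxW, CfsgLib.Classical.Quad.refl_fix hx⟩
  have ha := finrank_le_inf_ker_add_one (U ⊓ W) φ
  have hb := finrank_le_inf_ker_add_one (U ⊓ W') φ
  rw [h2] at hb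
  have hca : finrank F ↥(U ⊓ W ⊓ LinearMap.ker φ) ≤ finrank F ↥(U ⊓ W) :=
    Submodule.finrank_mono inf_le_left
  have hcb : finrank F ↥(U ⊓ W ⊓ LinearMap.ker φ) ≤ finrank F ↥(U ⊓ W') := by
    rw [← h2]; exact Submodule.finrank_mono inf_le_left
  -- not both are bigger
  have hnot1 : ¬ (finrank F ↥(U ⊓ W ⊓ LinearMap.ker φ) < finrank F ↥(U ⊓ W) ∧
      finrank F ↥(U ⊓ W ⊓ LinearMap.ker φ) < finrank F ↥(U ⊓ W')) := by
    rintro ⟨h3, h4⟩
    obtain ⟨w, hw, hwv⟩ : ∃ w ∈ U ⊓ W, polar Q w v ≠ 0 := by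
      by_contra! hc
      have : U ⊓ W ⊓ LinearMap.ker φ = U ⊓ W :=
        inf_eq_left.mpr fun x hx => (hφ x).mpr (hc x hx)
      rw [this] at h3
      exact lt_irrefl _ h3
    obtain ⟨w', hw', hwv'⟩ : ∃ w ∈ U ⊓ W', polar Q w v ≠ 0 := by
      by_contra! hc
      have : U ⊓ W' ⊓ LinearMap.ker φ = U ⊓ W' :=
        inf_eq_left.mpr fun x hx => (hφ x).mpr (hc x hx)
      rw [h2] at this
      rw [this] at h4
      exact lt_irrefl _ h4
    obtain ⟨x, hx, hxw⟩ := hw'.2
    have h5 : polar Q w w' = 0 := hU.polar_eq_zero hw.1 hw'.1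
    rw [← hxw] at h5 hwv'
    change polar Q w ((refl Q v).1 x) = 0 at h5
    change polar Q ((refl Q v).1 x) v ≠ 0 at hwv'
    rw [CfsgLib.Classical.Quad.refl_apply, polar_add_right, polar_smul_right,
      hW.polar_eq_zero hw.2 hx, zero_add, smul_eq_mul, mul_eq_zero, neg_eq_zero, div_eq_zero_iff] at h5
    rcases h5 with (h5 | h5) | h5
    · apply hwv'
      rw [CfsgLib.Classical.Quad.refl_fix h5]
      exact h5
    · exact hv h5
    · exact hwv h5
  -- not both are equal
  have hnot2 : ¬ (finrank F ↥(U ⊓ W) ≤ finrank F ↥(U ⊓ W ⊓ LinearMap.ker φ) ∧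
      finrank F ↥(U ⊓ W') ≤ finrank F ↥(U ⊓ W ⊓ LinearMap.ker φ)) := by
    rintro ⟨h3, h4⟩
    have e1 : U ⊓ W ⊓ LinearMap.ker φ = U ⊓ W := Submodule.eq_of_le_of_finrank_le inf_le_left h3
    have e2 : U ⊓ W' ⊓ LinearMap.ker φ = U ⊓ W' :=
      Submodule.eq_of_le_of_finrank_le inf_le_left (by rw [h2]; exact h4)
    have hsup : U ⊔ W = LinearMap.BilinForm.orthogonal (polarBilin Q) (U ⊓ W) := by
      refine Submodule.eq_of_le_of_finrank_le (sup_le ?_ ?_) ?_
      · intro x hx y hy; exact hU.polar_eq_zero hy.1 hx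
      · intro x hx y hy; exact hW.polar_eq_zero hy.2 hx
      · rw [CfsgLib.Orth.finrank_polar_orthogonal hnd]
        have := Submodule.finrank_sup_add_finrank_inf_eq U W
        have := hU.2; have := hW.2; omega
    have hvmem : v ∈ U ⊔ W := by
      rw [hsup]
      intro y hy
      rw [← e1] at hy
      exact (hφ y).mp hy.2
    obtain ⟨u, hu, w, hw, huw⟩ := Submodule.mem_sup.mp hvmem
    have hQv : Q v = polar Q u w := by
      rw [← huw, QuadraticMap.map_add (⇑Q), hU.1 u hu, hW.1 w hw, zero_add, zero_add]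
    have hwv : polar Q w v = Q v := by
      rw [← huw, polar_add_right, hW.polar_eq_zero hw hw, add_zero, polar_comm, huw, hQv]
    have hr : (refl Q v).1 w = -u := by
      rw [CfsgLib.Classical.Quad.refl_apply, hwv, div_self hv, neg_one_smul]
      rw [← huw]; abel
    have hu' : -u ∈ U ⊓ W' := ⟨U.neg_mem hu, ⟨w, hw, hr⟩⟩
    rw [← e2, h2] at hu'
    exact hvW (huw ▸ add_mem (by simpa using W.neg_mem hu'.1.2) hw)
  omega

/-- `dim (U ∩ gW) ≡ dim (U ∩ W) + rank (g - 1)` modulo two. -/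
theorem finrank_inf_map_parity (hnd : NDPolar Q)
    (hgen : Subgroup.closure (CfsgLib.Orth.reflSet Q) = ⊤) {U W : Submodule F V}
    (hU : IsMaxSing Q U) (hW : IsMaxSing Q W) (g : Orth Q) :
    (finrank F ↥(U ⊓ W.map (g.1 : V →ₗ[F] V)) : ZMod 2) =
      finrank F ↥(U ⊓ W) + CfsgLib.Orth.moved g := by
  have h := hgen.ge (Subgroup.mem_top g)
  have hone : W.map ((1 : Orth Q).1 : V →ₗ[F] V) = W := by
    ext x; simp
  have step : ∀ (v : V), Q v ≠ 0 → ∀ y : Orth Q,
      (finrank F ↥(U ⊓ W.map (y.1 : V →ₗ[F] V)) : ZMod 2) =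
        finrank F ↥(U ⊓ W) + CfsgLib.Orth.moved y →
      (finrank F ↥(U ⊓ W.map ((refl Q v * y).1 : V →ₗ[F] V)) : ZMod 2) =
        finrank F ↥(U ⊓ W) + CfsgLib.Orth.moved (refl Q v * y) := by
    intro v hv y hy
    have hmap : W.map ((refl Q v * y).1 : V →ₗ[F] V) =
        (W.map (y.1 : V →ₗ[F] V)).map ((refl Q v).1 : V →ₗ[F] V) := by
      rw [← Submodule.map_comp]; rfl
    rw [hmap, CfsgLib.Orth.moved_refl_mul_parity hnd y hv, ← add_assoc, ← hy]
    rcases finrank_inf_map_refl hnd hU (hW.map y) hv with h1 | h1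
    · rw [← h1]; push_cast
      rw [add_assoc, CharTwo.add_self_eq_zero, add_zero]
    · rw [h1]; push_cast; rfl
  induction h using Subgroup.closure_induction_left with
  | one => rw [hone, CfsgLib.Orth.moved_one, Nat.cast_zero, add_zero]
  | mul_left x hx y _ ih =>
    obtain ⟨v, hv, rfl⟩ := hx
    exact step v hv y ih
  | inv_mul_cancel x hx y _ ih =>
    obtain ⟨v, hv, rfl⟩ := hx
    rw [CfsgLib.Classical.Quad.refl_inv]
    exact step v hv y ih

section Coord

variable {ι : Type} [Fintype ι] [DecidableEq ι] {Q : QuadraticForm F (ι → F)}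

/-- `g` preserves the class of `U` iff `rank (g - 1)` is even. -/
theorem even_sub_finrank_inf_map (hnd : NDPolar Q) (h : Regular F ι) {U : Submodule F (ι → F)} {m : ℕ}
    (hU : ∀ x ∈ U, Q x = 0) (hUm : finrank F U = m) (hι : Fintype.card ι = 2 * m)
    (g : ↥(Cfsg.isometryGroup F ⇑Q)) :
    Even (m - finrank F ↥(U ⊓ U.map (Matrix.mulVecLin ((g : GL ι F) : Matrix ι ι F)))) ↔
      parity g = 0 := by
  have hmap : U.map ((toOrth Q g).1 : (ι → F) →ₗ[F] (ι → F)) =
      U.map (Matrix.mulVecLin ((g : GL ι F) : Matrix ι ι F)) :=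
    congrArg U.map (LinearMap.ext fun x => toOrth_apply g x)
  have hmax : IsMaxSing Q U := ⟨hU, by rw [hUm, finrank_fintype_fun_eq_card, hι]⟩
  have hpar := finrank_inf_map_parity hnd (closure_reflSet hnd h) hmax hmax (toOrth Q g)
  rw [hmap, inf_idem, hUm] at hpar
  have hle : finrank F ↥(U ⊓ U.map (Matrix.mulVecLin ((g : GL ι F) : Matrix ι ι F))) ≤ m :=
    hUm ▸ Submodule.finrank_mono inf_le_left
  rw [← ZMod.natCast_eq_zero_iff_even, Nat.cast_sub hle, hpar, parity]
  constructor <;> intro h0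
  · linear_combination -h0
  · linear_combination -h0

end Coord

end CfsgLib.OrthCrit
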