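import Cfsg.Agent.Lib.OrthCrit.Basic

/-!
Anisotropic vectors in nondegenerate subspaces, giving stabiliser elements of every class.
-/

set_option autoImplicit false

namespace CfsgLib.OrthCrit

open QuadraticMap Module
open CfsgLib.Classical.Quad (NDPolar Orth refl)

variable {F : Type*} [Field F] {ι : Type} [Fintype ι] [DecidableEq ι] {Q : QuadraticForm F (ι → F)}

/-- A nondegenerate non-zero subspace has a non-singular vector. -/
theorem exists_anisotropic_mem {S : Submodule F (ι → F)}
    (hS : ∀ x ∈ S, (∀ y ∈ S, polar Q y x = 0) → x = 0) (hS0 : S ≠ ⊥) : ∃ v ∈ S, Q v ≠ 0 := by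
  by_contra! h
  obtain ⟨x, hx, hx0⟩ := Submodule.exists_mem_ne_zero_of_ne_bot hS0
  exact hx0 (hS x hx fun y hy => by simp [polar, h _ (add_mem hy hx), h y hy, h x hx])

/-- A nondegenerate subspace of dimension at least two represents everything (odd characteristic). -/
theorem exists_norm_mem [Fintype F] (h2 : (2 : F) ≠ 0) {S : Submodule F (ι → F)}
    (hS : ∀ x ∈ S, (∀ y ∈ S, polar Q y x = 0) → x = 0) (hd : 2 ≤ finrank F S) (c : F) :
    ∃ v ∈ S, Q v = c := by
  obtain ⟨x, hx, hQx⟩ := exists_anisotropic_mem hS (fun h => by rw [h] at hd; simp at hd)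
  have hxx : polar Q x x ≠ 0 := by
    rw [CfsgLib.Classical.Quad.polar_self']; exact mul_ne_zero h2 hQx
  let T : Submodule F (ι → F) := S ⊓ LinearMap.ker (polarBilin Q x)
  have hTnd : ∀ z ∈ T, (∀ y ∈ T, polar Q y z = 0) → z = 0 := by
    intro z hz hzT
    refine hS z hz.1 fun y hy => ?_
    have hy' : y - (polar Q x y / polar Q x x) • x ∈ T := by
      refine ⟨S.sub_mem hy (S.smul_mem _ hx), ?_⟩
      show polarBilin Q x (y - _) = 0
      simp only [polarBilin_apply_apply, polar_sub_right, polar_smul_right, smul_eq_mul]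
      rw [div_mul_cancel₀ _ hxx, sub_self]
    have h1 := hzT _ hy'
    have hxz : polar Q x z = 0 := hz.2
    rw [polar_sub_left, polar_smul_left, hxz, smul_zero, sub_zero] at h1
    exact h1
  have hT0 : T ≠ ⊥ := by
    intro hT
    have h := Submodule.finrank_sup_add_finrank_inf_eq S (LinearMap.ker (polarBilin Q x))
    rw [show S ⊓ LinearMap.ker (polarBilin Q x) = ⊥ from hT, finrank_bot] at h
    have h1 := LinearMap.finrank_range_add_finrank_ker (polarBilin Q x)
    have h2' := Submodule.finrank_le (LinearMap.range (polarBilin Q x))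
    have h3 := Submodule.finrank_le (S ⊔ LinearMap.ker (polarBilin Q x))
    rw [Module.finrank_self] at h2'
    omega
  obtain ⟨y, hy, hQy⟩ := exists_anisotropic_mem hTnd hT0
  obtain ⟨s, t, hst⟩ := OrthSpinor.exists_norm_in_plane (Q := Q) h2 hQx hQy hy.2 c
  exact ⟨_, add_mem (S.smul_mem s hx) (S.smul_mem t hy.1), hst⟩

end CfsgLib.OrthCrit
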