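import Cfsg.Agent.Lib.OrthCrit.Forms
import Cfsg.Agent.Lib.OrthCrit.MaxSingular

/-!
Products over hyperbolic pairs: the involution negating pairs, and the swap of the split form.
-/

set_option autoImplicit false

namespace CfsgLib.OrthCrit

open QuadraticMap Module
open CfsgLib.Classical.Quad (NDPolar Orth refl)

variable {F : Type*} [Field F] {ι : Type} [Fintype ι] [DecidableEq ι] {Q : QuadraticForm F (ι → F)}

/-- The involution negating `k` mutually orthogonal hyperbolic pairs. -/
theorem exists_negPairs [Fintype F] (hnd : NDPolar Q) (h2 : (2 : F) ≠ 0) (e f : ℕ → ι → F) (k : ℕ)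
    (he : ∀ j < k, Q (e j) = 0 ∧ Q (f j) = 0 ∧ polar Q (e j) (f j) = 1)
    (ho : ∀ j < k, ∀ j' < k, j ≠ j' → polar Q (e j) (e j') = 0 ∧ polar Q (f j) (f j') = 0 ∧
      polar Q (e j) (f j') = 0) :
    ∃ P : ↥(Cfsg.isometryGroup F ⇑Q), parity P = 0 ∧
      (OrthSpinor.theta (Q := Q) 1 P = 1 ↔ (IsSquare (-1 : F) ∨ Even k)) ∧
      ∀ x, OrthSpinor.act Q P x =
        x - (2 : F) • ∑ j ∈ Finset.range k, (polar Q x (f j) • e j + polar Q x (e j) • f j) := by
  classical
  have hreg := regular_of_two_ne_zero (ι := ι) h2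
  induction k with
  | zero => exact ⟨1, parity_one, by simp, fun x => by simp [OrthSpinor.act_one]⟩
  | succ k ih =>
    obtain ⟨P, hp, hθ, hP⟩ := ih (fun j hj => he j (by omega))
      (fun j hj j' hj' => ho j (by omega) j' (by omega))
    obtain ⟨h1, h2', h3⟩ := he k (by omega)
    have hee := CfsgLib.Classical.Quad.polar_singular_self h1
    have hff := CfsgLib.Classical.Quad.polar_singular_self h2'
    have hQ : ∀ c : F, Q (e k + c • f k) = c := fun c => by
      rw [CfsgLib.Classical.Quad.Q_comb1, h1, h2', h3]; ring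
    have ha : Q (e k + (1 : F) • f k) ≠ 0 := by rw [hQ]; exact one_ne_zero
    have hb : Q (e k + (-1 : F) • f k) ≠ 0 := by rw [hQ]; simp
    refine ⟨P * (OrthSpinor.reflection ha * OrthSpinor.reflection hb), ?_, ?_, fun x => ?_⟩
    · rw [parity_mul hnd hreg, parity_mul hnd hreg, hp, parity_reflection hnd, parity_reflection hnd]
      decide
    · rw [map_mul, map_mul]
      rw [OrthSpinor.theta_reflection_of_square h2 one_ne_zero ha
        (by rw [hQ, one_mul]; exact IsSquare.one)]
      by_cases hm : IsSquare (-1 : F)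
      · rw [OrthSpinor.theta_reflection_of_square h2 one_ne_zero hb (by rwa [hQ, one_mul])]
        simp [hm] at hθ ⊢
        simp [hθ]
      · rw [OrthSpinor.theta_reflection_of_nonsquare h2 one_ne_zero hb (by rwa [hQ, one_mul])]
        simp only [hm, false_or] at hθ ⊢
        rw [Nat.even_add_one]
        rcases Int.units_eq_one_or (OrthSpinor.theta (Q := Q) 1 P) with h | h <;> simp_all
    · rw [OrthSpinor.act_mul, hP, ← toOrth_apply, map_mul, toOrth_reflection, toOrth_reflection,
        CfsgLib.Classical.Quad.mul_apply, CfsgLib.Classical.Quad.refl_apply,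
        CfsgLib.Classical.Quad.refl_apply, hQ, hQ]
      have hz : ∀ j ∈ Finset.range k, polar Q (e k) (e j) = 0 ∧ polar Q (e k) (f j) = 0 ∧
          polar Q (f k) (e j) = 0 ∧ polar Q (f k) (f j) = 0 := by
        intro j hj
        rw [Finset.mem_range] at hj
        obtain ⟨a, b, c⟩ := ho k (by omega) j (by omega) (by omega)
        obtain ⟨a', b', c'⟩ := ho j (by omega) k (by omega) (by omega)
        exact ⟨a, c, by rw [polar_comm]; exact c', b⟩
      set z := x + (-(polar Q x (e k + (-1 : F) • f k) / -1)) • (e k + (-1 : F) • f k) with hz'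
      have hy : z + (-(polar Q z (e k + (1 : F) • f k) / 1)) • (e k + (1 : F) • f k) =
          x - (2 : F) • (polar Q x (f k) • e k + polar Q x (e k) • f k) := by
        simp only [hz', polar_add_left, polar_add_right, polar_smul_left, polar_smul_right,
          smul_eq_mul, hee, hff, h3, polar_comm Q (f k) (e k)]
        match_scalars <;> ring
      rw [hy]
      have hsum : ∑ j ∈ Finset.range k,
          (polar Q (x - (2 : F) • (polar Q x (f k) • e k + polar Q x (e k) • f k)) (f j) • e j +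
            polar Q (x - (2 : F) • (polar Q x (f k) • e k + polar Q x (e k) • f k)) (e j) • f j) =
          ∑ j ∈ Finset.range k, (polar Q x (f j) • e j + polar Q x (e j) • f j) := by
        refine Finset.sum_congr rfl fun j hj => ?_
        obtain ⟨a, b, c, d⟩ := hz j hj
        simp [polar_sub_left, polar_smul_left, polar_add_left, a, b, c, d]
      rw [hsum, Finset.sum_range_succ, smul_add _ (∑ j ∈ Finset.range k, _)]
      abel

/-- `Ω`-membership of the involution negating `k` hyperbolic pairs. -/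
theorem negPairs_mem_Omega_iff [Fintype F] (hnd : NDPolar Q) (h2 : (2 : F) ≠ 0)
    (hn : 2 ≤ Fintype.card ι) {q : ℕ} (hF : Fintype.card F = q) (e f : ℕ → ι → F) (k : ℕ)
    (he : ∀ j < k, Q (e j) = 0 ∧ Q (f j) = 0 ∧ polar Q (e j) (f j) = 1)
    (ho : ∀ j < k, ∀ j' < k, j ≠ j' → polar Q (e j) (e j') = 0 ∧ polar Q (f j) (f j') = 0 ∧
      polar Q (e j) (f j') = 0) (M : Matrix ι ι F)
    (hM : ∀ x, M.mulVec x =
        x - (2 : F) • ∑ j ∈ Finset.range k, (polar Q x (f j) • e j + polar Q x (e j) • f j)) :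
    (∃ g : ↥(Cfsg.isometryGroup F ⇑Q), g ∈ Cfsg.Omega F ⇑Q ∧ ((g : GL ι F) : Matrix ι ι F) = M) ↔
      q ^ k % 4 = 1 := by
  obtain ⟨P, hp, hθ, hP⟩ := exists_negPairs hnd h2 e f k he ho
  have hPM : ((P : GL ι F) : Matrix ι ι F) = M :=
    Matrix.ext_iff_mulVec.mpr fun x => (hP x).trans (hM x).symm
  have hq : q % 2 = 1 := hF ▸ FiniteField.odd_card_of_char_ne_two (fun h => h2 (by
    have : CharP F 2 := h ▸ ringChar.charP F
    exact_mod_cast CharP.cast_eq_zero F 2))
  have key : (IsSquare (-1 : F) ∨ Even k) ↔ q ^ k % 4 = 1 := by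
    rw [FiniteField.isSquare_neg_one_iff, hF, Nat.pow_mod]
    rcases Nat.even_or_odd k with hk | hk
    · obtain ⟨r, rfl⟩ := hk
      refine iff_of_true (Or.inr ⟨r, rfl⟩) ?_
      rw [← two_mul, pow_mul, Nat.pow_mod]
      have : (q % 4) ^ 2 % 4 = 1 := by
        rcases (by omega : q % 4 = 1 ∨ q % 4 = 3) with h | h <;> simp [h]
      rw [Nat.pow_mod (q % 4), Nat.mod_mod, this]
      simp
    · obtain ⟨r, rfl⟩ := hk
      simp only [Nat.not_even_iff_odd.mpr ⟨r, rfl⟩, or_false]
      rw [pow_succ, pow_mul, Nat.mul_mod, Nat.pow_mod]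
      rcases (by omega : q % 4 = 1 ∨ q % 4 = 3) with h | h <;> simp [h]
  rw [← key, ← hθ]
  constructor
  · rintro ⟨g, hg, hgM⟩
    rw [OrthSpinor.eq_of_matrix Q (hgM.trans hPM.symm)] at hg
    exact ((mem_Omega_iff_odd hnd h2 hn P).mp hg).2
  · exact fun h => ⟨P, (mem_Omega_iff_odd hnd h2 hn P).mpr ⟨hp, h⟩, hPM⟩

section Split

variable {m : ℕ}

/-- The swap of the first `k` pairs is a product of `k` conjugate reflections. -/
theorem exists_swap (hm : 1 ≤ m) (k : ℕ) (hk : k ≤ m) :
    ∃ g : ↥(Cfsg.isometryGroup F ⇑(plusForm m F)),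
      (Even k → g ∈ Cfsg.Omega F ⇑(plusForm m F)) ∧
      ∀ x, OrthSpinor.act (plusForm m F) g x =
        Sum.elim (fun i : Fin m => if (i : ℕ) < k then x (.inr i) else x (.inl i))
          (fun i : Fin m => if (i : ℕ) < k then x (.inl i) else x (.inr i)) := by
  let v : Fin m → (Fin m ⊕ Fin m → F) := fun i => Pi.single (.inl i) 1 - Pi.single (.inr i) 1
  have hQv : ∀ i, plusForm m F (v i) = -1 := fun i => by
    simp [v, Cfsg.quadFormPlus, Pi.single_apply]
  have hv : ∀ i, plusForm m F (v i) ≠ 0 := fun i => by rw [hQv]; simp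
  set π : ↥(Cfsg.isometryGroup F ⇑(plusForm m F)) →* Abelianization _ := Abelianization.of
  have hconj : ∀ i j, π (OrthSpinor.reflection (hv i)) = π (OrthSpinor.reflection (hv j)) := by
    intro i j
    obtain ⟨g, hg⟩ := CfsgLib.Orth.exists_map_of_Q_eq (ndPolar_plusForm m) (hv i)
      (by rw [hQv, hQv] : plusForm m F (v i) = plusForm m F (v j))
    have hr : (toOrth (plusForm m F)).symm g * OrthSpinor.reflection (hv i) *
        ((toOrth (plusForm m F)).symm g)⁻¹ = OrthSpinor.reflection (hv j) := by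
      apply (toOrth (plusForm m F)).injective
      rw [map_mul, map_mul, map_inv, MulEquiv.apply_symm_apply, toOrth_reflection, toOrth_reflection,
        CfsgLib.Classical.Quad.refl_conj, hg]
    rw [← hr, map_mul, map_mul, map_inv, mul_inv_cancel_comm]
  set a := π (OrthSpinor.reflection (hv ⟨0, hm⟩)) with ha
  have ha2 : a * a = 1 := by rw [ha, ← map_mul, OrthSpinor.reflection_mul_self, map_one]
  suffices ∃ g : ↥(Cfsg.isometryGroup F ⇑(plusForm m F)), π g = a ^ k ∧
      ∀ x, OrthSpinor.act (plusForm m F) g x =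
        Sum.elim (fun i : Fin m => if (i : ℕ) < k then x (.inr i) else x (.inl i))
          (fun i : Fin m => if (i : ℕ) < k then x (.inl i) else x (.inr i)) by
    obtain ⟨g, hg, hx⟩ := this
    refine ⟨g, fun hev => (QuotientGroup.eq_one_iff g).mp ?_, hx⟩
    obtain ⟨r, rfl⟩ := hev
    show π g = 1
    rw [hg, ← two_mul, pow_mul, _root_.sq, ha2, one_pow]
  induction k with
  | zero => exact ⟨1, by simp, fun x => by ext (i | i) <;> simp [OrthSpinor.act_one]⟩
  | succ k ih =>
    obtain ⟨g, hg, hgx⟩ := ih (by omega)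
    refine ⟨g * OrthSpinor.reflection (hv ⟨k, hk⟩), by rw [map_mul, hg, hconj _ ⟨0, hm⟩, pow_succ],
      fun x => ?_⟩
    rw [OrthSpinor.act_mul, hgx, ← toOrth_apply, toOrth_reflection,
      CfsgLib.Classical.Quad.refl_apply, hQv]
    have hp : polar (⇑(plusForm m F)) x (v ⟨k, hk⟩) = x (.inr ⟨k, hk⟩) - x (.inl ⟨k, hk⟩) := by
      simp [polar_plusForm, v, Pi.single_apply, Finset.sum_add_distrib, mul_sub, sub_eq_add_neg,
        add_comm]
    rw [hp]
    ext (i | i) <;> simp only [Sum.elim_inl, Sum.elim_inr, Pi.add_apply, Pi.smul_apply, smul_eq_mul, v,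
      Pi.sub_apply, Pi.single_apply, Sum.inl.injEq, Sum.inr.injEq, reduceCtorEq, if_false] <;>
      rcases lt_trichotomy (i : ℕ) k with hlt | heq | hgt
    · simp [hlt, Nat.lt_succ_of_lt hlt, Fin.ext_iff, hlt.ne]
    · obtain rfl : i = ⟨k, hk⟩ := Fin.ext heq
      simp [div_neg, neg_div]
    · simp [hgt.not_gt, Nat.not_lt.mpr (Nat.succ_le_of_lt hgt), Fin.ext_iff, hgt.ne']
    · simp [hlt, Nat.lt_succ_of_lt hlt, Fin.ext_iff, hlt.ne]
    · obtain rfl : i = ⟨k, hk⟩ := Fin.ext heq
      simp [div_neg, neg_div]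
    · simp [hgt.not_gt, Nat.not_lt.mpr (Nat.succ_le_of_lt hgt), Fin.ext_iff, hgt.ne']

/-- The standard maximal totally singular subspace. -/
abbrev halfSpace (F : Type*) [Field F] (m : ℕ) : Submodule F (Fin m ⊕ Fin m → F) :=
  LinearMap.ker (LinearMap.funLeft F F (Sum.inr : Fin m → Fin m ⊕ Fin m))

theorem halfSpace_singular : ∀ x ∈ halfSpace F m, plusForm m F x = 0 := by
  intro x hx
  have h : ∀ i, x (Sum.inr i) = 0 := fun i => congrFun hx i
  simp [Cfsg.quadFormPlus, h]

theorem finrank_halfSpace : finrank F (halfSpace F m) = m := by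
  have h := LinearMap.finrank_range_add_finrank_ker (LinearMap.funLeft F F (Sum.inr : Fin m → Fin m ⊕ Fin m))
  rw [LinearMap.range_eq_top.mpr (LinearMap.funLeft_surjective_of_injective F F _ Sum.inr_injective),
    finrank_top, finrank_fintype_fun_eq_card, finrank_fintype_fun_eq_card] at h
  simp at h
  exact h

end Split

end CfsgLib.OrthCrit
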