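import Cfsg.Agent.Lib.Orth.Reflection
import Cfsg.Agent.Lib.Orth.Spinor

/-!
A criterion for membership of `Ω(Q)` in all characteristics: parity of `rank (g - 1)` together with,
in odd characteristic, the spinor norm `θ`.  Correction of a Witt extension into `Ω`.
-/

set_option autoImplicit false

namespace CfsgLib.OrthCrit

open QuadraticMap Module Cfsg
open CfsgLib.Classical.Quad (NDPolar Orth refl)

variable {F : Type*} [Field F] {ι : Type} [Fintype ι] [DecidableEq ι] {Q : QuadraticForm F (ι → F)}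

/-- The isometries as linear automorphisms. -/
noncomputable def toOrth (Q : QuadraticForm F (ι → F)) : ↥(isometryGroup F ⇑Q) ≃* Orth Q :=
  CfsgLib.Classical.Quad.isometryGroupEquiv Q fun _ => rfl

theorem toOrth_apply (g : ↥(isometryGroup F ⇑Q)) (x : ι → F) :
    (toOrth Q g).1 x = OrthSpinor.act Q g x :=
  CfsgLib.Classical.Quad.isometryGroupEquiv_apply Q _ g x

theorem toOrth_symm_act (g : Orth Q) (x : ι → F) :
    OrthSpinor.act Q ((toOrth Q).symm g) x = g.1 x := by
  rw [← toOrth_apply, MulEquiv.apply_symm_apply]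

theorem toOrth_reflection {v : ι → F} (hv : Q v ≠ 0) :
    toOrth Q (OrthSpinor.reflection hv) = refl Q v :=
  (CfsgLib.Orth.isometryGroupEquiv_refl Q (OrthSpinor.reflection hv) v).mp rfl

/-- `rank (g - 1)` modulo two. -/
noncomputable def parity (g : ↥(isometryGroup F ⇑Q)) : ZMod 2 :=
  (CfsgLib.Orth.moved (toOrth Q g) : ZMod 2)

/-- The usual exception: dimension four over two elements. -/
abbrev Regular (F : Type*) [Field F] (ι : Type) [Fintype ι] : Prop :=
  (∃ t : F, t ≠ 0 ∧ t ≠ 1) ∨ Fintype.card ι ≠ 4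

theorem regular_of_card [Fintype F] {n : ℕ} (hι : Fintype.card ι = n)
    (h : Fintype.card F ≠ 2 ∨ n ≠ 4) : Regular F ι :=
  h.imp CfsgLib.Orth.exists_ne_zero_ne_one_of_card fun h => hι ▸ h

theorem regular_of_two_ne_zero (h2 : (2 : F) ≠ 0) : Regular F ι :=
  Or.inl ⟨-1, by simp, fun h => h2 (by linear_combination -h)⟩

theorem closure_reflSet (hnd : NDPolar Q) (h : Regular F ι) :
    Subgroup.closure (CfsgLib.Orth.reflSet Q) = ⊤ :=
  CfsgLib.Orth.closure_refl hnd (by simpa using h)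

theorem parity_mul (hnd : NDPolar Q) (h : Regular F ι) (g g' : ↥(isometryGroup F ⇑Q)) :
    parity (g * g') = parity g + parity g' := by
  rw [parity, map_mul]
  exact CfsgLib.Orth.moved_mul_parity hnd (closure_reflSet hnd h) _ _

theorem parity_one : parity (1 : ↥(isometryGroup F ⇑Q)) = 0 := by
  simp [parity, CfsgLib.Orth.moved_one]

theorem parity_reflection (hnd : NDPolar Q) {v : ι → F} (hv : Q v ≠ 0) :
    parity (OrthSpinor.reflection hv) = 1 := by
  have h := CfsgLib.Orth.moved_refl_mul_parity hnd (1 : Orth Q) hv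
  rw [mul_one, CfsgLib.Orth.moved_one, Nat.cast_zero, zero_add] at h
  rw [parity, toOrth_reflection, h]

/-- The parity as a homomorphism. -/
noncomputable def parityHom (hnd : NDPolar Q) (h : Regular F ι) :
    ↥(isometryGroup F ⇑Q) →* Multiplicative (ZMod 2) where
  toFun g := Multiplicative.ofAdd (parity g)
  map_one' := by rw [parity_one]; rfl
  map_mul' g g' := by rw [parity_mul hnd h, ofAdd_add]

theorem parityHom_apply (hnd : NDPolar Q) (h : Regular F ι) (g : ↥(isometryGroup F ⇑Q)) :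
    parityHom hnd h g = Multiplicative.ofAdd (parity g) := rfl

theorem parity_of_mem_Omega (hnd : NDPolar Q) (h : Regular F ι) {g : ↥(isometryGroup F ⇑Q)}
    (hg : g ∈ Omega F ⇑Q) : parity g = 0 := by
  have := MonoidHom.mem_ker.mp (Abelianization.commutator_subset_ker (parityHom hnd h) hg)
  rwa [parityHom_apply, ofAdd_eq_one] at this

theorem detHom_eq_one_iff (hnd : NDPolar Q) (h2 : (2 : F) ≠ 0) (g : ↥(isometryGroup F ⇑Q)) :
    OrthSpinor.detHom g = 1 ↔ parity g = 0 := by
  classical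
  have h := regular_of_two_ne_zero (ι := ι) h2
  have hne : (-1 : Fˣ) ≠ 1 := fun e => h2 (by
    have := congrArg Units.val e
    simp at this
    linear_combination -this)
  let s : Multiplicative (ZMod 2) →* Fˣ := MonoidHom.mk' (fun z => if z = 1 then 1 else -1) (by
    intro a b
    have hz : ∀ z : Multiplicative (ZMod 2), z = 1 ∨ z = Multiplicative.ofAdd 1 := by decide
    have hb : (Multiplicative.ofAdd (1 : ZMod 2)) * Multiplicative.ofAdd 1 = 1 := by decide
    have hc : Multiplicative.ofAdd (1 : ZMod 2) ≠ 1 := by decide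
    rcases hz a with rfl | rfl <;> rcases hz b with rfl | rfl <;> simp [hb, hc])
  have hs : s.comp (parityHom hnd h) = OrthSpinor.detHom := by
    refine OrthSpinor.hom_ext h2 (CfsgLib.Orth.ndPolar_iff.mp hnd) fun v hv => ?_
    rw [MonoidHom.comp_apply, parityHom_apply, parity_reflection hnd hv,
      OrthSpinor.detHom_reflection]
    show (if Multiplicative.ofAdd (1 : ZMod 2) = 1 then (1 : Fˣ) else -1) = -1
    rw [if_neg (by decide)]
  rw [← hs]
  show (if Multiplicative.ofAdd (parity g) = 1 then (1 : Fˣ) else -1) = 1 ↔ _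
  by_cases hp : parity g = 0
  · simp [hp]
  · simp [hp, hne]

/-- In odd characteristic: the determinant. -/
theorem det_eq_one_iff_parity (hnd : NDPolar Q) (h2 : (2 : F) ≠ 0) (g : ↥(isometryGroup F ⇑Q)) :
    ((g : GL ι F) : Matrix ι ι F).det = 1 ↔ parity g = 0 := by
  rw [← detHom_eq_one_iff hnd h2, ← OrthSpinor.detHom_coe]
  exact Units.val_eq_one

section Finite

variable [Fintype F]

theorem mem_Omega_iff_char_two [CharP F 2] (hnd : NDPolar Q) (h : Regular F ι) (hQ : ∃ v, Q v ≠ 0)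
    (g : ↥(isometryGroup F ⇑Q)) : g ∈ Omega F ⇑Q ↔ parity g = 0 := by
  refine ⟨parity_of_mem_Omega hnd h, fun hg => ?_⟩
  have hidx := CfsgLib.Orth.index_Omega_char_two Q hnd h hQ
  have hle : Omega F ⇑Q ≤ (parityHom hnd h).ker := Abelianization.commutator_subset_ker _
  have hker : (parityHom hnd h).ker.index = 2 := by
    rw [Subgroup.index_ker, MonoidHom.range_eq_top.mpr ?_]
    · simp [Subgroup.card_top]
    · intro z
      obtain ⟨v, hv⟩ := hQ
      have hz : z = 1 ∨ z = Multiplicative.ofAdd 1 := by revert z; decide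
      rcases hz with rfl | rfl
      · exact ⟨1, map_one _⟩
      · exact ⟨OrthSpinor.reflection hv, by rw [parityHom_apply, parity_reflection hnd hv]⟩
  have h1 := Subgroup.relIndex_mul_index hle
  rw [hker, hidx] at h1
  have h2 : (Omega F ⇑Q).relIndex (parityHom hnd h).ker = 1 := by omega
  refine Subgroup.relIndex_eq_one.mp h2 ?_
  rw [MonoidHom.mem_ker, parityHom_apply, hg]
  rfl

theorem mem_Omega_iff_odd (hnd : NDPolar Q) (h2 : (2 : F) ≠ 0) (hn : 2 ≤ Fintype.card ι)
    (g : ↥(isometryGroup F ⇑Q)) :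
    g ∈ Omega F ⇑Q ↔ parity g = 0 ∧ OrthSpinor.theta (Q := Q) 1 g = 1 := by
  rw [OrthSpinor.mem_Omega_iff h2 (CfsgLib.Orth.ndPolar_iff.mp hnd) hn one_ne_zero,
    detHom_eq_one_iff hnd h2]

theorem charP_two_of (h2 : (2 : F) = 0) : CharP F 2 :=
  CharTwo.of_one_ne_zero_of_two_eq_zero one_ne_zero h2

theorem exists_Q_ne_zero (hnd : NDPolar Q) [Nonempty ι] : ∃ v, Q v ≠ 0 := by
  by_contra! h
  obtain ⟨i⟩ := ‹Nonempty ι›
  have : (Pi.single i 1 : ι → F) = 0 := hnd _ fun y => by simp [polar, h]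
  simpa using congrFun this i

/-- Membership of `Ω`, uniformly in the characteristic. -/
theorem mem_Omega (hnd : NDPolar Q) (h : Regular F ι) (hn : 2 ≤ Fintype.card ι)
    {g : ↥(isometryGroup F ⇑Q)} (hp : parity g = 0)
    (ht : (2 : F) ≠ 0 → OrthSpinor.theta (Q := Q) 1 g = 1) : g ∈ Omega F ⇑Q := by
  by_cases h2 : (2 : F) = 0
  · have := charP_two_of h2
    have : Nonempty ι := Fintype.card_pos_iff.mp (by omega)
    exact (mem_Omega_iff_char_two hnd h (exists_Q_ne_zero hnd) g).mpr hp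
  · exact (mem_Omega_iff_odd hnd h2 hn g).mpr ⟨hp, ht h2⟩

/-- A product of two reflections whose norms lie in different square classes flips `θ`. -/
theorem theta_pair (h2 : (2 : F) ≠ 0) {a b : ι → F} (ha : Q a ≠ 0) (hb : Q b ≠ 0)
    (hab : ¬ IsSquare (Q a * Q b)) :
    OrthSpinor.theta (Q := Q) 1 (OrthSpinor.reflection ha * OrthSpinor.reflection hb) = -1 := by
  rw [map_mul]
  by_cases h1 : IsSquare (Q a)
  · rw [OrthSpinor.theta_reflection_of_square h2 one_ne_zero ha (by rwa [one_mul]),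
      OrthSpinor.theta_reflection_of_nonsquare h2 one_ne_zero hb
        (fun hsq => hab (h1.mul (by rwa [one_mul] at hsq))), mul_one]
  · have hsq : IsSquare (Q b) := by
      by_contra hb'
      exact hab (OrthSpinor.isSquare_mul_of_not h1 hb')
    rw [OrthSpinor.theta_reflection_of_nonsquare h2 one_ne_zero ha (by rwa [one_mul]),
      OrthSpinor.theta_reflection_of_square h2 one_ne_zero hb (by rwa [one_mul]), one_mul]

/-- Adjusting an isometry of even parity into `Ω`. -/
theorem exists_mul_mem_Omega_of_parity (hnd : NDPolar Q) (h : Regular F ι) (hn : 2 ≤ Fintype.card ι)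
    (H : Subgroup ↥(isometryGroup F ⇑Q)) (g : ↥(isometryGroup F ⇑Q)) (hg : parity g = 0)
    (hflip : (2 : F) ≠ 0 → ∃ t ∈ H, parity t = 0 ∧ OrthSpinor.theta (Q := Q) 1 t = -1) :
    ∃ x ∈ H, g * x ∈ Omega F ⇑Q := by
  by_cases hθ : (2 : F) ≠ 0 → OrthSpinor.theta (Q := Q) 1 g = 1
  · exact ⟨1, one_mem _, by rw [mul_one]; exact mem_Omega hnd h hn hg hθ⟩
  · push Not at hθ
    obtain ⟨h2, hθ⟩ := hθ
    obtain ⟨t, htH, htp, htθ⟩ := hflip h2
    refine ⟨t, htH, mem_Omega hnd h hn (by rw [parity_mul hnd h, hg, htp, add_zero]) fun _ => ?_⟩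
    rw [map_mul, htθ, (Int.units_eq_one_or _).resolve_left hθ]
    decide

/-- Adjusting an isometry into `Ω`. -/
theorem exists_mul_mem_Omega (hnd : NDPolar Q) (h : Regular F ι) (hn : 2 ≤ Fintype.card ι)
    (H : Subgroup ↥(isometryGroup F ⇑Q)) (g : ↥(isometryGroup F ⇑Q))
    (hodd : ∃ r ∈ H, parity r = 1)
    (hflip : (2 : F) ≠ 0 → ∃ t ∈ H, parity t = 0 ∧ OrthSpinor.theta (Q := Q) 1 t = -1) :
    ∃ x ∈ H, g * x ∈ Omega F ⇑Q := by
  by_cases hg : parity g = 0
  · exact exists_mul_mem_Omega_of_parity hnd h hn H g hg hflip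
  · obtain ⟨r, hrH, hr⟩ := hodd
    have h1 : parity g = 1 := by
      revert hg; generalize parity g = z; revert z; decide
    obtain ⟨x, hx, hgx⟩ := exists_mul_mem_Omega_of_parity hnd h hn H (g * r)
      (by rw [parity_mul hnd h, h1, hr]; decide) hflip
    exact ⟨r * x, mul_mem hrH hx, by rwa [← mul_assoc]⟩

/-- The stabiliser of a subspace. -/
def stab (Q : QuadraticForm F (ι → F)) (U : Submodule F (ι → F)) :
    Subgroup ↥(isometryGroup F ⇑Q) where
  carrier := {g | U.map (Matrix.mulVecLin ((g : GL ι F) : Matrix ι ι F)) = U}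
  one_mem' := by simp
  mul_mem' := by
    intro a b ha hb
    show U.map (Matrix.mulVecLin (((a * b : ↥(isometryGroup F ⇑Q)) : GL ι F) : Matrix ι ι F)) = U
    rw [Subgroup.coe_mul, Units.val_mul, Matrix.mulVecLin_mul, Submodule.map_comp, hb, ha]
  inv_mem' := by
    intro a ha
    show U.map _ = U
    conv_lhs => rw [← ha]
    rw [← Submodule.map_comp, ← Matrix.mulVecLin_mul, Subgroup.coe_inv, ← Units.val_mul,
      inv_mul_cancel, Units.val_one, Matrix.mulVecLin_one, Submodule.map_id]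

theorem mem_stab_of_forall {U : Submodule F (ι → F)} {g : ↥(isometryGroup F ⇑Q)}
    (h : ∀ x ∈ U, OrthSpinor.act Q g x ∈ U) : g ∈ stab Q U := by
  refine Submodule.eq_of_le_of_finrank_eq ?_ ?_
  · rintro _ ⟨x, hx, rfl⟩
    exact h x hx
  · exact (Submodule.equivMapOfInjective _
      (Matrix.mulVec_injective_iff_isUnit.mpr (g : GL ι F).isUnit) U).finrank_eq.symm

theorem reflection_mem_stab {U : Submodule F (ι → F)} {v : ι → F} (hv : Q v ≠ 0)
    (h : v ∈ U ∨ ∀ x ∈ U, polar Q x v = 0) : OrthSpinor.reflection hv ∈ stab Q U := by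
  refine mem_stab_of_forall fun x hx => ?_
  rcases h with h | h
  · rw [← toOrth_apply, toOrth_reflection, CfsgLib.Classical.Quad.refl_apply]
    exact add_mem hx (U.smul_mem _ h)
  · rwa [← toOrth_apply, toOrth_reflection, CfsgLib.Classical.Quad.refl_fix (h x hx)]

theorem map_eq_of_mem_stab {U W : Submodule F (ι → F)} {g x : ↥(isometryGroup F ⇑Q)}
    (hg : U.map (Matrix.mulVecLin ((g : GL ι F) : Matrix ι ι F)) = W) (hx : x ∈ stab Q U) :
    U.map (Matrix.mulVecLin (((g * x : ↥(isometryGroup F ⇑Q)) : GL ι F) : Matrix ι ι F)) = W := by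
  rw [Subgroup.coe_mul, Units.val_mul, Matrix.mulVecLin_mul, Submodule.map_comp]
  exact (congrArg _ hx).trans hg

omit [Fintype F] in
/-- Witt: an isometry between subspaces comes from an isometry of the whole space. -/
theorem exists_map_eq (hnd : NDPolar Q) (U W : Submodule F (ι → F)) (e : U ≃ₗ[F] W)
    (he : ∀ u : U, Q (e u : ι → F) = Q (u : ι → F)) :
    ∃ g : ↥(isometryGroup F ⇑Q), U.map (Matrix.mulVecLin ((g : GL ι F) : Matrix ι ι F)) = W := by
  obtain ⟨f, hf, hf0⟩ := CfsgLib.Forms.exists_extension U W e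
  obtain ⟨g, hg, hgU⟩ := CfsgLib.Forms.witt_quadratic Q (CfsgLib.Orth.ndPolar_iff.mp hnd) U f
    (fun x hx => by rw [hf ⟨x, hx⟩]; exact he _) hf0
  refine ⟨(toOrth Q).symm ⟨g, hg⟩, Submodule.ext fun y => ⟨?_, fun hy => ?_⟩⟩
  · rintro ⟨x, hx, rfl⟩
    show OrthSpinor.act Q _ x ∈ W
    rw [toOrth_symm_act]
    show g x ∈ W
    rw [hgU x hx, hf ⟨x, hx⟩]
    exact (e ⟨x, hx⟩).2
  · refine ⟨e.symm ⟨y, hy⟩, (e.symm ⟨y, hy⟩).2, ?_⟩
    show OrthSpinor.act Q _ _ = y
    rw [toOrth_symm_act]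
    show g _ = y
    rw [hgU _ (e.symm ⟨y, hy⟩).2, hf, LinearEquiv.apply_symm_apply]

/-- A hyperbolic partner. -/
theorem exists_partner (hnd : NDPolar Q) {u : ι → F} (hu0 : u ≠ 0) (hu : Q u = 0) :
    ∃ z, Q z = 0 ∧ polar Q u z = 1 := by
  obtain ⟨z, hz⟩ := CfsgLib.Classical.Quad.exists_polar_one hnd hu0
  refine ⟨z + (-Q z) • u, ?_, ?_⟩
  · rw [CfsgLib.Classical.Quad.Q_comb1, hu, polar_comm Q z u, hz]; ring
  · rw [polar_add_right, polar_smul_right, hz, CfsgLib.Classical.Quad.polar_singular_self hu,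
      smul_zero, add_zero]

/-- An element of the stabiliser of a totally singular subspace with `θ = -1` and even parity. -/
theorem exists_flip_singular (hnd : NDPolar Q) (h2 : (2 : F) ≠ 0) {U : Submodule F (ι → F)}
    (hU : ∀ x ∈ U, Q x = 0) (hU0 : U ≠ ⊥) :
    ∃ t ∈ stab Q U, parity t = 0 ∧ OrthSpinor.theta (Q := Q) 1 t = -1 := by
  obtain ⟨u, huU, hu0⟩ := Submodule.exists_mem_ne_zero_of_ne_bot hU0
  obtain ⟨z, hz, huz⟩ := exists_partner hnd hu0 (hU u huU)
  obtain ⟨ν, hν, hns⟩ := OrthSpinor.exists_nonsquare' (F := F) h2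
  have huu := CfsgLib.Classical.Quad.polar_singular_self (hU u huU)
  have hzz := CfsgLib.Classical.Quad.polar_singular_self hz
  have hQ : ∀ c : F, Q (u + c • z) = c := fun c => by
    rw [CfsgLib.Classical.Quad.Q_comb1, hU u huU, hz, huz]; ring
  have ha : Q (u + (1 : F) • z) ≠ 0 := by rw [hQ]; exact one_ne_zero
  have hb : Q (u + ν • z) ≠ 0 := by rw [hQ]; exact hν
  refine ⟨OrthSpinor.reflection ha * OrthSpinor.reflection hb, mem_stab_of_forall fun x hx => ?_,
    ?_, theta_pair h2 ha hb (by rwa [hQ, hQ, one_mul])⟩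
  · have hxu : polar Q x u = 0 := by simp [polar, hU _ (add_mem hx huU), hU x hx, hU u huU]
    rw [← toOrth_apply, map_mul, toOrth_reflection, toOrth_reflection,
      CfsgLib.Classical.Quad.mul_apply, CfsgLib.Classical.Quad.refl_apply,
      CfsgLib.Classical.Quad.refl_apply, hQ, hQ]
    simp only [polar_add_left, polar_add_right, polar_smul_left, polar_smul_right, smul_eq_mul,
      hxu, huu, hzz, huz, polar_comm Q z u]
    convert add_mem hx (U.smul_mem ((ν - 1) * polar Q x z) huU) using 1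
    match_scalars <;> field_simp <;> ring
  · rw [parity_mul hnd (regular_of_two_ne_zero h2), parity_reflection hnd, parity_reflection hnd]
    decide

end Finite

end CfsgLib.OrthCrit
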